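import Groth.Agent.AmpleEmb.TwistOne
import Groth.Agent.AmpleEmb.ExtendMod
import Groth.Agent.AmpleEmb.Generated
import Groth.Agent.AmpleLib.ExtendMod
import Groth.Agent.ProjTwistLib.Ample
import Groth.Agent.ProjTwist.Vanish
import Groth.Agent.CurveLib.TensorExact
import Groth.Agent.CMRegLib.Res
import Groth.Agent.BCLib.TensorFT

/-!
# Twists on projective space over an arbitrary ring
-/

set_option autoImplicit false
set_option backward.isDefEq.respectTransparency false
set_option linter.style.haveILetI false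
set_option maxHeartbeats 800000

universe u

open CategoryTheory CategoryTheory.Limits AlgebraicGeometry TopologicalSpace Opposite
open Groth.Agent.PullbackMod Groth.Agent.DCohLib Groth.Agent.ParaFLib Groth.Agent.AmpleLib

noncomputable section

namespace Groth.Agent.PruferVanLib

variable {n : ℕ} {R : Type u} [CommRing R]

local notation "PS" => CohB1.ProjSpace n R
local notation "O(" d ")" => Twist.twistProjSpace n R d

theorem hasUnit (d : ℤ) (x : Proj (CohB1.polyGrading n R)) :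
    ProjTwistLib.HasUnit (CohB1.polyGrading n R) d x :=
  ProjTwistLib.hasUnit_one_of_cover (top_le_iff.1 ((AmpleEmb.iSup_stdOpen n R).ge.trans
    (iSup_le fun a => le_iSup_of_le (AmpleEmb.coordForm n R a) le_rfl))) d x

/-- `O(a) ⊗ O(b) ≅ O(c)`. -/
def mulI {a b c : ℤ} (h : a + b = c) : CohB1.tensorMod (O(a)) (O(b)) ≅ O(c) :=
  ProjTwistLib.mulIso (𝒜 := CohB1.polyGrading n R) h (hasUnit a)

/-- Powers of `O(1)`. -/
def powTw (K : ℕ) : CohB1.tensorPow (O(1)) K ≅ O((K : ℤ)) :=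
  ProjTwistLib.powIso (hasUnit (n := n) (R := R) 1) K ≪≫
    eqToIso (congrArg (Twist.twist (CohB1.polyGrading n R)) (mul_one (K : ℤ)))

/-- `O(0) ≅ O`. -/
def oneI : O(0) ≅ Coh.structureModule PS :=
  (@asIso _ _ _ _ (ProjCoh.unitToTwist (CohB1.polyGrading n R)) ProjCoh.isIso_unitToTwist).symm

/-- `(M(a))(b) ≅ M(c)`. -/
def shiftI (M : (PS).Modules) {a b c : ℤ} (h : a + b = c) :
    CohB1.tensorMod (CohB1.tensorMod M (O(a))) (O(b)) ≅ CohB1.tensorMod M (O(c)) :=
  AmpleLib.assoc M _ _ ≪≫ AmpleLib.tIso (Iso.refl M) (mulI h)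

/-- `M(0) ≅ M`. -/
def zeroI (M : (PS).Modules) : CohB1.tensorMod M (O(0)) ≅ M :=
  AmpleLib.tIso (Iso.refl M) oneI ≪≫ AmpleLib.unitR M

theorem isInvertible_tw (d : ℤ) : PicF.IsInvertible (O(d)) :=
  AmpleLib.isInvertible_of_tensor_iso (mulI (add_neg_cancel d) ≪≫ oneI)

theorem isCompact_top : CompactSpace (PS) := (AmpleEmb.isAmple_twistOne n R).2.1

/-- A quasi-coherent module with finite sections on affine opens is a quotient of sums of twists. -/
theorem exists_epi_twists (M : (PS).Modules) [Coh.IsQCoh M]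
    (hM : ∀ W : (PS).Opens, IsAffineOpen W → Module.Finite Γ(PS, W) Γ(M, W)) :
    ∃ (b K : ℕ) (q : (∐ fun _ : Fin b => O(-(K : ℤ))) ⟶ M), Epi q := by
  classical
  haveI : CompactSpace (PS) := isCompact_top
  haveI : QuasiSeparatedSpace (PS) := quasiSeparatedSpace_of_isAmple (AmpleEmb.isAmple_twistOne n R)
  have hP := AmpleEmb.isInvertible_twistOne n R
  let s := AmpleEmb.coordSec n R
  let U := fun i => CohB1.genLocus (O(1)) (s i)
  have hU : ∀ i, IsAffineOpen (U i) := fun i => by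
    show IsAffineOpen (CohB1.genLocus _ (AmpleEmb.coordSec n R i))
    rw [AmpleEmb.genLocus_coordSec]
    exact AmpleEmb.isAffineOpen_stdOpen n R i
  have hcov : ∀ y : PS, ∃ i, y ∈ U i := fun y => by
    obtain ⟨i, hi⟩ := Opens.mem_iSup.1 ((AmpleEmb.iSup_stdOpen n R).ge (Opens.mem_top y))
    exact ⟨i, (AmpleEmb.genLocus_coordSec n R i).ge hi⟩
  choose S hS using fun i => (hM (U i) (hU i)).fg_top
  let J := Σ i : Fin (n + 1), (S i : Finset Γ(M, U i))
  choose k₀ hk₀ using fun j : J => AmpleEmb.exists_extend_mod hP (s j.1) M j.2.1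
  let K := Finset.univ.sup k₀
  choose ξ hξ using fun j : J => hk₀ j K (Finset.le_sup (Finset.mem_univ _))
  let Q := tmod M (CohB1.tensorPow (O(1)) K)
  let e := Fintype.equivFin J
  let q₀ : (∐ fun _ : Fin (Fintype.card J) => Coh.structureModule PS) ⟶ Q :=
    Sigma.desc fun j => DCohLib.secHom Q (ξ (e.symm j))
  have hq₀ : Epi q₀ := by
    refine (epi_iff_stalk q₀).2 fun y => ?_
    rw [← LinearMap.range_eq_top, eq_top_iff]
    obtain ⟨i, hi⟩ := hcov y
    refine le_trans (AmpleEmb.span_stalkTensor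
      ((gen_powLoc (gen_genLocus hP (s i)) K).bijective_germ y hi)
      (span_germ_eq_top M (hU i) hi _ (hS i))).ge (Submodule.span_le.2 ?_)
    rintro _ ⟨_, ⟨σ, hσ, rfl⟩, rfl⟩
    have h1 := congrArg (Q.presheaf.germ (U i) y hi) (hξ ⟨i, σ, hσ⟩)
    erw [TopCat.Presheaf.germ_res_apply, germ_pairS] at h1
    let l := Sigma.ι (fun _ : Fin (Fintype.card J) => Coh.structureModule PS) (e ⟨i, σ, hσ⟩)
    have h2 : q₀.app ⊤ (sec l) = ξ ⟨i, σ, hσ⟩ := by
      refine (show sec (l ≫ q₀) = _ from ?_)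
      rw [show l ≫ q₀ = _ from Sigma.ι_desc _ _, sec_secHom, Equiv.symm_apply_apply]
    refine ⟨_, (stalkLin_germ q₀ (U := ⊤) y trivial (sec l)).trans ?_⟩
    rw [h2]
    exact h1
  let T := CurveLib.tensR (O(-(K : ℤ)))
  haveI := hq₀
  haveI : Epi (T.map q₀) := inferInstance
  refine ⟨Fintype.card J, K, (CMRegLib.sigmaUnitIso (O(-(K : ℤ))) _).hom ≫ T.map q₀ ≫
    (AmpleLib.tIso (AmpleLib.tIso (Iso.refl M) (powTw K)) (Iso.refl _) ≪≫
      shiftI M (add_neg_cancel (K : ℤ)) ≪≫ zeroI M).hom, inferInstance⟩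

theorem isFinLocFree_twists (b : ℕ) (d : ℤ) : FlatMod.IsFinLocFree (∐ fun _ : Fin b => O(d)) :=
  DCohLib.isFinLocFree_sigma b _ fun _ => CurveLib.isFinLocFree_of_isInvertible (isInvertible_tw d)

end Groth.Agent.PruferVanLib
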