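import Groth.Agent.PruferVanLib.Epi
import Groth.Agent.S0012
import Groth.Agent.S0405
import Groth.Agent.CohBase.ProjSpace
import Groth.Agent.QCohLib.Push
import Groth.Agent.QCohLib.FPSections
import Groth.Agent.FibreDepth.Loci
import Groth.Agent.FactorOne.Basic
import Groth.Agent.ShriekBridge.Chart
import Groth.Agent.DCohLib.ProjClosed
import Groth.Agent.DCohLib.ClosedPush
import Groth.Agent.AmpleLib.Pullback

/-!
# Serre vanishing over Prüfer domains
-/

set_option autoImplicit false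
set_option backward.isDefEq.respectTransparency false
set_option linter.style.haveILetI false
set_option maxHeartbeats 800000

universe u

open CategoryTheory CategoryTheory.Limits AlgebraicGeometry TopologicalSpace Opposite
open Groth.Agent.PullbackMod Groth.Agent.DCohLib

noncomputable section

namespace Groth.Agent.PruferVanLib

variable {n : ℕ} {R : Type u} [CommRing R]

local notation "PS" => CohB1.ProjSpace n R
local notation "O(" d ")" => Twist.twistProjSpace n R d

/-- Finite presentation of sections on all affine opens. -/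
def AllFP {X : Scheme.{u}} (M : X.Modules) : Prop :=
  ∀ W : X.Opens, IsAffineOpen W → Module.FinitePresentation Γ(X, W) Γ(M, W)

/-- Kernels of surjections from twists have finitely presented sections. -/
theorem allFP_kernel [IsDomain R] (hR : ∀ (p : Ideal R) [p.IsPrime], ValuationRing (Localization.AtPrime p))
    {b : ℕ} {d : ℤ} {M : (PS).Modules} [Coh.IsQCoh M] (hM : AllFP M)
    (q : (∐ fun _ : Fin b => O(d)) ⟶ M) [Epi q] :
    Coh.IsQCoh (kernel q) ∧ AllFP (kernel q) := by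
  let E : (PS).Modules := ∐ fun _ : Fin b => O(d)
  have hE : FlatMod.IsFinLocFree E := isFinLocFree_twists b d
  haveI hEq : Coh.IsQCoh E := (PullbackMod.isQCoh_and_isFP_of_isFinLocFree E hE).1
  have hK : Coh.IsQCoh (kernel q) := (QCohLib.isQCoh_image q hEq inferInstance).1
  refine ⟨hK, fun W hW => ?_⟩
  have hS := CMRegLib.shortExact_ker q
  haveI : Flat (CohB1.ProjSpace.toSpec n R) := ShriekBridge.flat_toSpec n R
  haveI : Smooth (CohB1.ProjSpace.toSpec n R) := ProjSmoothLib.smooth_toSpec n R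
  let φ := (CohB1.ProjSpace.toSpec n R).appLE ⊤ W le_top
  letI algR : Algebra R Γ(PS, W) := (φ.hom.comp (Scheme.ΓSpecIso (CommRingCat.of R)).inv.hom).toAlgebra
  haveI : Module.Flat R Γ(PS, W) := RingHom.flat_algebraMap_iff.1
    ((RingHom.Flat.of_bijective (ConcreteCategory.bijective_of_isIso (Scheme.ΓSpecIso (CommRingCat.of R)).inv)).comp
      ((CohB1.ProjSpace.toSpec n R).flat_appLE (isAffineOpen_top _) hW le_top))
  haveI : Algebra.FiniteType R Γ(PS, W) := RingHom.finiteType_algebraMap.1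
    (((CohB1.ProjSpace.toSpec n R).finiteType_appLE (isAffineOpen_top _) hW le_top).comp
      (RingHom.FiniteType.of_surjective _
        (ConcreteCategory.bijective_of_isIso (Scheme.ΓSpecIso (CommRingCat.of R)).inv).2))
  haveI : Module.Projective Γ(PS, W) Γ(E, W) := FactorOne.projective_sections E hE hW
  haveI : Module.Finite Γ(PS, W) Γ(E, W) := QCohLib.finite_sections E (DCohLib.isFT_of_flf hE) hW
  haveI := hM W hW
  let iK : Γ(kernel q, W) →ₗ[Γ(PS, W)] Γ(E, W) :=
    { toFun := (kernel.ι q).app W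
      map_add' := map_add _
      map_smul' := fun r s => Scheme.Modules.Hom.app_smul _ _ _ }
  let gK : Γ(E, W) →ₗ[Γ(PS, W)] Γ(M, W) :=
    { toFun := q.app W
      map_add' := map_add _
      map_smul' := fun r s => Scheme.Modules.Hom.app_smul _ _ _ }
  have hinj : Function.Injective iK := QCohLib.app_injective hS W
  have hrange : LinearMap.range iK = LinearMap.ker gK := by
    refine le_antisymm ?_ fun x hx => ?_
    · rintro _ ⟨t, rfl⟩
      exact QCohLib.app_g_f (S := ShortComplex.mk (kernel.ι q) q (kernel.condition q)) W t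
    · exact QCohLib.app_exact hS W x hx
  have hfg : (LinearMap.range iK).FG :=
    hrange ▸ Module.FinitePresentation.fg_ker gK (QCohLib.app_surjective hS hK hW)
  haveI : Module.Finite Γ(PS, W) Γ(kernel q, W) :=
    haveI := Module.Finite.iff_fg.2 hfg
    Module.Finite.equiv (LinearEquiv.ofInjective iK hinj).symm
  letI : Module R Γ(E, W) := Module.compHom _ (algebraMap R Γ(PS, W))
  haveI : IsScalarTower R Γ(PS, W) Γ(E, W) := IsScalarTower.of_algebraMap_smul fun _ _ => rfl
  letI : Module R Γ(kernel q, W) := Module.compHom _ (algebraMap R Γ(PS, W))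
  haveI : IsScalarTower R Γ(PS, W) Γ(kernel q, W) := IsScalarTower.of_algebraMap_smul fun _ _ => rfl
  haveI : Module.Flat R Γ(E, W) := Module.Flat.trans R Γ(PS, W) Γ(E, W)
  haveI : Module.Flat R Γ(kernel q, W) := by
    rw [Module.Flat.flat_iff_torsion_eq_bot_of_valuationRing_localization_isMaximal (fun P _ => hR P), eq_bot_iff]
    rintro x ⟨⟨r, hr⟩, hx⟩
    refine hinj (Eq.trans ?_ (map_zero iK).symm)
    have h0 : iK x ∈ Submodule.torsion R Γ(E, W) :=
      ⟨⟨r, hr⟩, (iK.map_smul (algebraMap R Γ(PS, W) r) x).symm.trans ((congrArg iK hx).trans (map_zero iK))⟩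
    rwa [Module.Flat.torsion_eq_bot, Submodule.mem_bot] at h0
  exact Groth.Agent.S0405.result (R := R)

theorem subsingleton_twists_tensor {b : ℕ} {c d : ℤ} (h : 0 ≤ c + d) {q : ℕ} (hq : 1 ≤ q) :
    Subsingleton (Coh.HH PS (CohB1.tensorMod (∐ fun _ : Fin b => O(c)) (O(d))) q) := by
  haveI : HasFiniteBiproducts (PS).Modules := HasFiniteBiproducts.of_hasFiniteProducts
  obtain ⟨m, rfl⟩ : ∃ m, q = m + 1 := ⟨q - 1, by omega⟩
  refine CMRegLib.sigma_induction
    (fun M : (PS).Modules => Subsingleton (Coh.HH PS ((CurveLib.tensR (O(d))).obj M) (m + 1)))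
    (fun Z hZ => CMRegLib.subsingleton_zero ((CurveLib.tensR (O(d))).map_isZero hZ) _)
    (fun A B hA hB => ?_) (fun e h => @ProjCoh.subsingleton_of_iso _ _ _ ((CurveLib.tensR (O(d))).mapIso e) _ h)
    (fun _ : Fin b => O(c)) fun _ => ?_
  · exact SerreAff.subsingleton_mid
      (((ShortComplex.Splitting.ofHasBinaryBiproduct A B).map (CurveLib.tensR (O(d)))).shortExact) _ hA hB
  · exact @ProjCoh.subsingleton_of_iso _ _ _ (mulI (rfl : c + d = c + d)).symm _
      (ProjTwist.subsingleton_HH_pos n R (c + d) m (Or.inl (by omega)))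

theorem isQCoh_twBy {M : (PS).Modules} [Coh.IsQCoh M] (d : ℤ) : Coh.IsQCoh (CohB1.tensorMod M (O(d))) :=
  @BCLib.isQCoh_tmod (PS) M (O(d)) _ (InvExt.isQCoh_of_isInvertible (X := PS) (isInvertible_tw d))

theorem shortExact_tw {S : ShortComplex (PS).Modules} (hS : S.ShortExact) (d : ℤ) :
    (S.map (CurveLib.tensR (O(d)))).ShortExact :=
  CurveLib.shortExact_tensR hS fun x => CurveLib.freeAt_one_of_isInvertible (isInvertible_tw d) x

/-- Serre vanishing for modules with finitely presented sections. -/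
theorem exists_vanishing [IsDomain R] (hR : ∀ (p : Ideal R) [p.IsPrime], ValuationRing (Localization.AtPrime p))
    (M : (PS).Modules) [Coh.IsQCoh M] (hM : AllFP M) :
    ∃ N : ℕ, ∀ n' : ℕ, N ≤ n' → ∀ q : ℕ, 1 ≤ q →
      Subsingleton (Coh.HH PS (CohB1.tensorMod M (O((n' : ℤ)))) q) := by
  suffices h : ∀ e j : ℕ, n + 1 ≤ j + e → ∀ M : (PS).Modules, Coh.IsQCoh M → AllFP M →
      ∃ N : ℕ, ∀ n' : ℕ, N ≤ n' → ∀ q : ℕ, j ≤ q → 1 ≤ q →
        Subsingleton (Coh.HH PS (CohB1.tensorMod M (O((n' : ℤ)))) q) by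
    obtain ⟨N, hN⟩ := h (n + 1) 0 (by omega) M inferInstance hM
    exact ⟨N, fun n' hn' q hq => hN n' hn' q (Nat.zero_le _) hq⟩
  intro e
  induction e with
  | zero =>
    intro j hj M hMq _
    refine ⟨0, fun n' _ q hq _ => ?_⟩
    haveI : Coh.IsQCoh (CohB1.tensorMod M (O((n' : ℤ)))) := isQCoh_twBy _
    exact CohBase.PS.vanishing_gt n R _ q (by omega)
  | succ e ih =>
    intro j hj M hMq hM
    haveI := hMq
    obtain ⟨b, K, p, hp⟩ := exists_epi_twists M fun W hW => haveI := hM W hW; inferInstance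
    haveI := hp
    obtain ⟨hKq, hKfp⟩ := allFP_kernel hR hM p
    obtain ⟨N, hN⟩ := ih (j + 1) (by omega) (kernel p) hKq hKfp
    refine ⟨max N K, fun n' hn' q hq hq1 => ?_⟩
    exact CMRegLib.subsingleton_right (shortExact_tw (CMRegLib.shortExact_ker p) (n' : ℤ)) q
      (subsingleton_twists_tensor (by omega) hq1) (hN n' (le_trans (le_max_left _ _) hn') (q + 1) (by omega) (by omega))

theorem surjective_top_of_H1 {X : Scheme.{u}} {T : ShortComplex X.Modules} (hT : T.ShortExact)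
    (h : Subsingleton (Coh.HH X T.X₁ 1)) : Function.Surjective (T.g.app ⊤) := by
  haveI : Subsingleton (CohBase.HU (⊤ : X.Opens) (T.map (QCohLib.toAbF X)).X₁ 1) := SerreAff.subsingleton_HU_top h
  exact CohBase.sections_surjective (QCohLib.toAb_shortExact hT) ⊤

variable {X : Scheme.{u}} (ι : X ⟶ CohB1.ProjSpace n R) [IsClosedImmersion ι]

/-- Direct images from a flat closed subscheme have finitely presented sections. -/
theorem allFP_push [IsDomain R] [Flat (ι ≫ CohB1.ProjSpace.toSpec n R)] (F : X.Modules) (hF : CohB1.IsFP F) :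
    AllFP ((Scheme.Modules.pushforward ι).obj F) := by
  intro W hW
  haveI : Coh.IsQCoh F := FibreDepth.isQCoh_of_isFP (hF := hF)
  haveI : Smooth (CohB1.ProjSpace.toSpec n R) := ProjSmoothLib.smooth_toSpec n R
  have hV : IsAffineOpen (ι ⁻¹ᵁ W) := hW.preimage ι
  have hs : Function.Surjective (ι.app W) := Scheme.Hom.app_surjective ι W hW
  let e := (Scheme.ΓSpecIso (CommRingCat.of R)).inv.hom
  letI : Algebra R Γ(PS, W) := (((CohB1.ProjSpace.toSpec n R).appLE ⊤ W le_top).hom.comp e).toAlgebra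
  letI : Algebra R Γ(X, ι ⁻¹ᵁ W) :=
    ((ι.app W).hom.comp (((CohB1.ProjSpace.toSpec n R).appLE ⊤ W le_top).hom.comp e)).toAlgebra
  letI : Algebra Γ(PS, W) Γ(X, ι ⁻¹ᵁ W) := (ι.app W).hom.toAlgebra
  haveI : IsScalarTower R Γ(PS, W) Γ(X, ι ⁻¹ᵁ W) := IsScalarTower.of_algebraMap_eq fun _ => rfl
  haveI : Algebra.FiniteType R Γ(PS, W) := RingHom.finiteType_algebraMap.1
    (((CohB1.ProjSpace.toSpec n R).finiteType_appLE (isAffineOpen_top _) hW le_top).comp
      (RingHom.FiniteType.of_surjective _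
        (ConcreteCategory.bijective_of_isIso (Scheme.ΓSpecIso (CommRingCat.of R)).inv).2))
  haveI : Module.Flat R Γ(X, ι ⁻¹ᵁ W) := by
    refine RingHom.flat_algebraMap_iff.1 ?_
    show (((ι.app W).hom.comp ((CohB1.ProjSpace.toSpec n R).appLE ⊤ W le_top).hom).comp e).Flat
    refine (RingHom.Flat.of_bijective
      (ConcreteCategory.bijective_of_isIso (Scheme.ΓSpecIso (CommRingCat.of R)).inv)).comp ?_
    rw [← CommRingCat.hom_comp, show (CohB1.ProjSpace.toSpec n R).appLE ⊤ W le_top ≫ ι.app W =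
      (ι ≫ CohB1.ProjSpace.toSpec n R).appLE ⊤ (ι ⁻¹ᵁ W) le_top by
        rw [← Scheme.Hom.appLE_eq_app, Scheme.Hom.appLE_comp_appLE]]
    exact (ι ≫ CohB1.ProjSpace.toSpec n R).flat_appLE (isAffineOpen_top _) hV le_top
  haveI : Module.Finite Γ(PS, W) Γ(X, ι ⁻¹ᵁ W) :=
    Module.Finite.of_surjective (Algebra.linearMap Γ(PS, W) Γ(X, ι ⁻¹ᵁ W)) hs
  haveI : Module.FinitePresentation Γ(PS, W) Γ(X, ι ⁻¹ᵁ W) := Groth.Agent.S0405.result (R := R)
  haveI : Module.FinitePresentation Γ(X, ι ⁻¹ᵁ W) Γ(F, ι ⁻¹ᵁ W) := QCohLib.finitePresentation_sections F hF hV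
  letI : Module Γ(PS, W) Γ(F, ι ⁻¹ᵁ W) := Module.compHom _ (ι.app W).hom
  haveI : IsScalarTower Γ(PS, W) Γ(X, ι ⁻¹ᵁ W) Γ(F, ι ⁻¹ᵁ W) := IsScalarTower.of_algebraMap_smul fun _ _ => rfl
  haveI : Module.FinitePresentation Γ(PS, W) Γ(F, ι ⁻¹ᵁ W) :=
    Module.FinitePresentation.trans Γ(PS, W) (M := Γ(F, ι ⁻¹ᵁ W)) Γ(X, ι ⁻¹ᵁ W)
  let eL : Γ(F, ι ⁻¹ᵁ W) ≃ₗ[Γ(PS, W)] Γ((Scheme.Modules.pushforward ι).obj F, W) :=
    { toFun := id
      invFun := id
      map_add' := fun _ _ => rfl
      map_smul' := fun _ _ => rfl }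
  exact Module.FinitePresentation.of_equiv eL

/-- Powers of the pulled back `O(1)`. -/
def pullTw (m : ℕ) :
    CohB1.tensorPow ((Scheme.Modules.pullback ι).obj (O(1))) m ≅ (Scheme.Modules.pullback ι).obj (O((m : ℤ))) :=
  (AmpleLib.pullPow ι (O(1)) m).symm ≪≫ (Scheme.Modules.pullback ι).mapIso (powTw m)

/-- Twisting commutes with the direct image. -/
def pushTwGen {Z Y : Scheme.{u}} (i : Z ⟶ Y) [IsClosedImmersion i] {L : Z.Modules} (N : Y.Modules)
    (e : L ≅ (Scheme.Modules.pullback i).obj N) (F : Z.Modules) :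
    (Scheme.Modules.pushforward i).obj ((CurveLib.tensR L).obj F) ≅
      (CurveLib.tensR N).obj ((Scheme.Modules.pushforward i).obj F) :=
  (Scheme.Modules.pushforward i).mapIso (((DCoh.tensorBi (X := Z)).obj F).mapIso e) ≪≫
    (DCohLib.projIso i F N).symm

theorem pushTwGen_natural {Z Y : Scheme.{u}} (i : Z ⟶ Y) [IsClosedImmersion i] {L : Z.Modules} (N : Y.Modules)
    (e : L ≅ (Scheme.Modules.pullback i).obj N) {F G : Z.Modules} (φ : F ⟶ G) :
    (Scheme.Modules.pushforward i).map ((CurveLib.tensR L).map φ) ≫ (pushTwGen i N e G).hom =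
      (pushTwGen i N e F).hom ≫ (CurveLib.tensR N).map ((Scheme.Modules.pushforward i).map φ) := by
  simp only [pushTwGen, Iso.trans_hom, Functor.mapIso_hom, Iso.symm_hom, Category.assoc]
  rw [← Category.assoc, ← Functor.map_comp]
  erw [← ((DCoh.tensorBi (X := Z)).map φ).naturality e.hom]
  rw [Functor.map_comp, Category.assoc]
  refine congrArg ((Scheme.Modules.pushforward i).map _ ≫ ·) ?_
  rw [Iso.eq_inv_comp, ← Category.assoc, Iso.comp_inv_eq]
  exact (DCohLib.projIso_natural_left i φ N).symm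

/-- Serre vanishing on a flat closed subscheme of projective space over a Prüfer domain. -/
theorem exists_vanishing_closed [IsDomain R] (hR : ∀ (p : Ideal R) [p.IsPrime], ValuationRing (Localization.AtPrime p))
    [Flat (ι ≫ CohB1.ProjSpace.toSpec n R)] (F : X.Modules) (hF : CohB1.IsFP F) :
    ∃ N : ℕ, ∀ n' : ℕ, N ≤ n' → ∀ q : ℕ, 1 ≤ q → Subsingleton (Coh.HH X (CohB1.tensorMod F
      (CohB1.tensorPow ((Scheme.Modules.pullback ι).obj (O(1))) n')) q) := by
  haveI : Coh.IsQCoh F := FibreDepth.isQCoh_of_isFP (hF := hF)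
  haveI : Coh.IsQCoh ((Scheme.Modules.pushforward ι).obj F) := QCohLib.isQCoh_pushforward (M := F) (f := ι)
  obtain ⟨N, hN⟩ := exists_vanishing hR _ (allFP_push ι F hF)
  refine ⟨N, fun n' hn' q hq => ?_⟩
  haveI : Coh.IsQCoh (CohB1.tensorPow ((Scheme.Modules.pullback ι).obj (O(1))) n') :=
    InvExt.isQCoh_of_isInvertible
      (AmpleLib.isInvertible_tensorPow (AmpleLib.isInvertible_pullback ι (isInvertible_tw 1)) n')
  haveI : Coh.IsQCoh (CohB1.tensorMod F (CohB1.tensorPow ((Scheme.Modules.pullback ι).obj (O(1))) n')) :=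
    BCLib.isQCoh_tmod F _
  obtain ⟨e⟩ := Groth.Agent.S0012.result ι
    (CohB1.tensorMod F (CohB1.tensorPow ((Scheme.Modules.pullback ι).obj (O(1))) n')) q
  exact e.toEquiv.subsingleton_congr.2 (@ProjCoh.subsingleton_of_iso _ _ _ (pushTwGen ι _ (pullTw ι n') F).symm q (hN n' hn' q hq))

theorem surjective_app_of_square {Y : Scheme.{u}} {f : Y ⟶ PS} {A B : Y.Modules} (u : A ⟶ B)
    {A' B' : (PS).Modules} (v : A' ⟶ B') (eA : (Scheme.Modules.pushforward f).obj A ≅ A')
    (eB : (Scheme.Modules.pushforward f).obj B ≅ B')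
    (h : (Scheme.Modules.pushforward f).map u ≫ eB.hom = eA.hom ≫ v)
    (hv : Function.Surjective (v.app ⊤)) : Function.Surjective (u.app ⊤) := fun s => by
  have hu : (Scheme.Modules.pushforward f).map u = eA.hom ≫ v ≫ eB.inv := by
    rw [← Category.assoc, Iso.eq_comp_inv, h]
  obtain ⟨a, ha⟩ := hv (eB.hom.app ⊤ s)
  refine ⟨eA.inv.app ⊤ a, ?_⟩
  have h3 := congrArg (fun t => t.app ⊤ (eA.inv.app ⊤ a)) hu
  refine h3.trans ?_
  show eB.inv.app ⊤ (v.app ⊤ (eA.hom.app ⊤ (eA.inv.app ⊤ a))) = s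
  rw [show eA.hom.app ⊤ (eA.inv.app ⊤ a) = a from congrArg (fun t => t.app ⊤ a) eA.inv_hom_id, ha]
  exact congrArg (fun t => t.app ⊤ s) eB.hom_inv_id

/-- Global sections of large twists map onto those of a quotient. -/
theorem exists_surjective_closed [IsDomain R] (hR : ∀ (p : Ideal R) [p.IsPrime], ValuationRing (Localization.AtPrime p))
    [Flat (ι ≫ CohB1.ProjSpace.toSpec n R)] {F G : X.Modules} (hF : CohB1.IsFP F) (hG : CohB1.IsFP G)
    (φ : F ⟶ G) [Epi φ] :
    ∃ N : ℕ, ∀ n' : ℕ, N ≤ n' → Function.Surjective (((CurveLib.tensR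
      (CohB1.tensorPow ((Scheme.Modules.pullback ι).obj (O(1))) n')).map φ).app ⊤) := by
  haveI : Coh.IsQCoh F := FibreDepth.isQCoh_of_isFP (hF := hF)
  haveI : Coh.IsQCoh G := FibreDepth.isQCoh_of_isFP (hF := hG)
  haveI : Coh.IsQCoh ((Scheme.Modules.pushforward ι).obj F) := QCohLib.isQCoh_pushforward (M := F) (f := ι)
  haveI : Coh.IsQCoh ((Scheme.Modules.pushforward ι).obj G) := QCohLib.isQCoh_pushforward (M := G) (f := ι)
  obtain ⟨b, K, p, hp⟩ := exists_epi_twists ((Scheme.Modules.pushforward ι).obj F)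
    fun W hW => haveI := allFP_push ι F hF W hW; inferInstance
  haveI := hp
  let p' := p ≫ (Scheme.Modules.pushforward ι).map φ
  haveI : Epi p' := epi_comp _ _
  obtain ⟨hKq, hKfp⟩ := allFP_kernel hR (allFP_push ι G hG) p'
  haveI := hKq
  obtain ⟨N, hN⟩ := exists_vanishing hR (kernel p') hKfp
  refine ⟨N, fun n' hn' => surjective_app_of_square _ _ (pushTwGen ι _ (pullTw ι n') F) (pushTwGen ι _ (pullTw ι n') G)
    (pushTwGen_natural ι _ (pullTw ι n') φ) fun s => ?_⟩
  obtain ⟨a, ha⟩ := surjective_top_of_H1 (shortExact_tw (CMRegLib.shortExact_ker p') (n' : ℤ))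
    (hN n' hn' 1 le_rfl) s
  refine ⟨((CurveLib.tensR (O((n' : ℤ)))).map p).app ⊤ a, ?_⟩
  refine Eq.trans ?_ ha
  exact congrArg (fun t => t.app ⊤ a)
    ((CurveLib.tensR (O((n' : ℤ)))).map_comp p ((Scheme.Modules.pushforward ι).map φ)).symm

end Groth.Agent.PruferVanLib
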